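import Cfsg.Agent.H381.Cover_m3
import Cfsg.Prelude.Def_Solvable
import Cfsg.Agent.H514.OrdExc
import Cfsg.Agent.H92.ExcTits
import Cfsg.Agent.S1069
import Cfsg.Agent.S1163
import Cfsg.Agent.Prune
set_option linter.all false

-- part: H389/NR/Fr
section
set_option linter.all false

/-!
# S3440: element orders of a nonsolvable Frobenius group (helper389)
-/

set_option autoImplicit false

namespace Cfsg.Agent.H389.NR

open Cfsg.Agent.H389.JSq (Has)

/-- the properties of the set of element orders of a nonsolvable Frobenius group -/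
structure Fr (X : Type*) [Group X] : Prop where
  six : Has X 6
  ten : Has X 10
  nine : ¬ Has X 9
  fifteen : ¬ Has X 15
  sixteen : ¬ Has X 16
  twenty : ¬ Has X 20
  twentyfour : ¬ Has X 24
  twentyfive : ¬ Has X 25
  twelve : Has X 8 → Has X 12

theorem Fr.of_range {X Y : Type*} [Group X] [Group Y]
    (h : Set.range (orderOf : X → ℕ) = Set.range (orderOf : Y → ℕ)) (hX : Fr X) : Fr Y := by
  have key : ∀ n, Has X n ↔ Has Y n := fun n => by
    have := Set.ext_iff.mp h n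
    simpa [Has] using this
  exact ⟨(key 6).mp hX.six, (key 10).mp hX.ten, fun h => hX.nine ((key 9).mpr h), fun h => hX.fifteen ((key 15).mpr h),
    fun h => hX.sixteen ((key 16).mpr h), fun h => hX.twenty ((key 20).mpr h),
    fun h => hX.twentyfour ((key 24).mpr h), fun h => hX.twentyfive ((key 25).mpr h),
    fun h => (key 12).mp (hX.twelve ((key 8).mpr h))⟩

theorem Fr.congr {X Y : Type*} [Group X] [Group Y] (e : X ≃* Y) (hX : Fr X) : Fr Y := by
  refine hX.of_range ?_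
  ext n
  constructor
  · rintro ⟨x, rfl⟩
    exact ⟨e x, e.orderOf_eq x⟩
  · rintro ⟨y, rfl⟩
    exact ⟨e.symm y, e.symm.orderOf_eq y⟩

/-- the prime graph is disconnected (the form of `S3856`) -/
def Disc (X : Type*) [Group X] : Prop :=
  ∃ A : Set ℕ, (∃ a ∈ A, a.Prime ∧ a ∣ Nat.card X) ∧ (∃ b ∉ A, b.Prime ∧ b ∣ Nat.card X) ∧
    ∀ a ∈ A, ∀ b ∉ A, a.Prime → b.Prime → a ∣ Nat.card X → b ∣ Nat.card X → ¬ Has X (a * b)

end Cfsg.Agent.H389.NR

private theorem dce_eb882723b344 : _root_.True := by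
  try have : _root_.True := by simp only [_root_.Cfsg.Agent.H389.JSq.Has.eq_1]
  exact _root_.True.intro
end

-- part: H185/NR/Tw
section
set_option linter.all false
open scoped Cfsg.Agent.FastGrp

/-!
# S3440: Suzuki groups, Ree groups, `²F₄(q)` and the Tits group (helper185)
-/

set_option autoImplicit false

namespace Cfsg.Agent.H185.NR

open Cfsg Cfsg.Lie Cfsg.Agent.H389.NR
open Cfsg.Agent.H374.EightExcTwo Cfsg.Agent.H374.EightExcTwoRows

theorem two_pow_mod (m : ℕ) : 2 ^ (2 * m + 1) % 3 = 2 := by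
  induction m with
  | zero => rfl
  | succ m ih =>
    rw [show 2 * (m + 1) + 1 = (2 * m + 1) + 2 by ring, pow_add, Nat.mul_mod, ih]
    norm_num

theorem three_pow_mod (m : ℕ) : 3 ^ (2 * m + 1) % 5 = 3 ∨ 3 ^ (2 * m + 1) % 5 = 2 := by
  induction m with
  | zero => left; rfl
  | succ m ih =>
    rw [show 2 * (m + 1) + 1 = (2 * m + 1) + 2 by ring, pow_add, Nat.mul_mod]
    rcases ih with h | h <;> rw [h] <;> norm_num

theorem not_three_sz {G : Type*} [Group G] (h : Lie.IsoSuzuki G) : ¬ 3 ∣ Nat.card G := by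
  obtain ⟨F, _, _, m, hm, hF, ⟨e⟩⟩ := h
  rw [Nat.card_congr e.toEquiv, (Cfsg.Agent.S1163.result hm hF).1]
  have hq := two_pow_mod m
  generalize 2 ^ (2 * m + 1) = q at hq
  intro h3
  have hq2 : q ^ 2 % 3 = 1 := by rw [Nat.pow_mod, hq]
  rcases (Nat.Prime.dvd_mul Nat.prime_three).1 h3 with h9 | h9
  · rcases (Nat.Prime.dvd_mul Nat.prime_three).1 h9 with h9 | h9
    · have := Nat.prime_three.dvd_of_dvd_pow h9
      omega
    · omega
  · omega

theorem not_five_ree {G : Type*} [Group G] (hG : Lie.IsoRee G) : ¬ 5 ∣ Nat.card G := by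
  obtain ⟨K, _, _, m, hm, hK, ⟨e⟩⟩ := hG
  intro h5
  rw [Nat.card_congr e.toEquiv, Cfsg.Agent.S1069.result hK] at h5
  have hq := three_pow_mod m
  generalize 3 ^ (2 * m + 1) = q at hq h5
  have h3 : q ^ 3 % 5 = 2 ∨ q ^ 3 % 5 = 3 := by
    rcases hq with h | h
    · left; rw [Nat.pow_mod, h]
    · right; rw [Nat.pow_mod, h]
  rcases (Nat.Prime.dvd_mul Nat.prime_five).1 h5 with h9 | h9
  · rcases (Nat.Prime.dvd_mul Nat.prime_five).1 h9 with h9 | h9
    · have := Nat.prime_five.dvd_of_dvd_pow h9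
      omega
    · omega
  · omega

theorem fr_sz {L : Type*} [Group L] [Finite L] (h : Cfsg.Lie.IsoSuzuki L) : ¬ Fr L := by
  intro hF
  obtain ⟨x, hx⟩ := hF.six
  exact not_three_sz h ((by norm_num : 3 ∣ 6).trans (hx ▸ orderOf_dvd_natCard x))

theorem fr_ree {L : Type*} [Group L] [Finite L] (h : Cfsg.Lie.IsoRee L) : ¬ Fr L := by
  intro hF
  obtain ⟨x, hx⟩ := hF.ten
  exact not_five_ree h ((by norm_num : 5 ∣ 10).trans (hx ▸ orderOf_dvd_natCard x))

theorem twF4_sixteen (K : Type*) [Field K] [CharP K 2] (e : ℕ) (he : e ≠ 0) :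
    ∃ x : ↥(twistedF4 K e), orderOf x = 16 :=
  H514.OC.Exc.exists_sixteen f4_inList (w := [33, 24, 27, 25, 28]) (a := 0) (b := 18)
    (by decide +kernel) (by decide +kernel) (by norm_num) (by decide +kernel) _ (el_mem_twF4 K e he)

theorem fr_2f4 {L : Type*} [Group L] [Finite L] (h : Cfsg.Lie.Iso2F4 L) : ¬ Fr L := by
  obtain ⟨K, _, _, m, hm, hK, ⟨e⟩⟩ := h
  have h2 : (2 : K) = 0 := by
    have h3 : ((Fintype.card K : ℕ) : K) = 0 := Nat.cast_card_eq_zero K
    rw [hK] at h3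
    push_cast at h3
    exact pow_eq_zero_iff (by omega) |>.1 h3
  have : CharP K 2 := CharTwo.of_one_ne_zero_of_two_eq_zero one_ne_zero h2
  obtain ⟨x, hx⟩ := twF4_sixteen K (2 ^ m) (pow_ne_zero _ two_ne_zero)
  exact fun hF => hF.sixteen ⟨e.symm x, by rw [e.symm.orderOf_eq, hx]⟩

set_option maxRecDepth 100000 in
theorem tits_sixteen : H92.KTools.HasOrd TitsGroup 16 :=
  H92.ExcTits.hasOrd_tits (a := [0, 3]) (b := [1, 7]) (by decide) (by decide) H92.ExcTits.t16

theorem transfer16 {S T : Type*} [Group S] [Group T] (h : ∃ x : T, orderOf x = 16) (e : Nonempty (S ≃* T)) :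
    ∃ x : S, orderOf x = 16 := by
  obtain ⟨x, hx⟩ := h
  obtain ⟨e⟩ := e
  exact ⟨e.symm x, by rw [e.symm.orderOf_eq, hx]⟩

theorem fr_tits {L : Type*} [Group L] [Finite L] (h : Cfsg.Lie.IsoTits L) : ¬ Fr L := fun hF =>
  hF.sixteen (@transfer16 L TitsGroup _ _ tits_sixteen h)

end Cfsg.Agent.H185.NR
end
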